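import Cfsg.Agent.Lib.KnownB.SuzukiGroup

/-!
A central extension of the Borel subgroup of `Sz(8)` by a four-group: the torus-invariant cocycle
`a² d + a⁵ c² + a c⁶` taken modulo the prime field.
-/

set_option autoImplicit false
set_option linter.unusedSectionVars false

namespace CfsgLib.Schur.SzEight

open Cfsg.Lie CfsgLib.KnownB.SzElem CfsgLib.KnownB.Suzuki

universe u

variable (F : Type u) [Field F]

/-- The prime field as an additive subgroup. -/
def ones : AddSubgroup F := AddSubgroup.zmultiples (1 : F)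

/-- The field modulo its prime field. -/
abbrev Ker : Type u := F ⧸ ones F

variable {F}

/-- The class of an element. -/
abbrev cls (x : F) : Ker F := QuotientAddGroup.mk x

/-- The cocycle on the coordinates. -/
def kpol (a c d : F) : F := a ^ 2 * d + a ^ 5 * c ^ 2 + a * c ^ 6

theorem kpol_scale {s : F} (hs : s ^ 7 = 1) (a c d : F) :
    kpol (s * a) (s * c) (s ^ 5 * d) = kpol a c d := by
  simp only [kpol]
  linear_combination (a ^ 2 * d + a ^ 5 * c ^ 2 + a * c ^ 6) * hs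

theorem cls_trace [Fintype F] (hF : Fintype.card F = 8) (h2 : (2 : F) = 0) (y : F) :
    cls (y + y ^ 2 + y ^ 4) = 0 := by
  have h8 : y ^ 8 = y := hF ▸ FiniteField.pow_card y
  have h : (y + y ^ 2 + y ^ 4) * ((y + y ^ 2 + y ^ 4) - 1) = 0 := by
    linear_combination h8 + (y ^ 3 + y ^ 5 + y ^ 6) * h2
  rw [cls, QuotientAddGroup.eq_zero_iff]
  rcases mul_eq_zero.1 h with h | h
  · rw [h]; exact zero_mem _
  · rw [sub_eq_zero.1 h]; exact AddSubgroup.mem_zmultiples 1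

theorem cls_neg (h2 : (2 : F) = 0) (x : F) : -cls x = cls x := by
  rw [cls, ← QuotientAddGroup.mk_neg]
  exact congrArg _ (by linear_combination (-x) * h2)

theorem kpol_cocycle [Fintype F] (hF : Fintype.card F = 8) (h2 : (2 : F) = 0) (a c d g h : F) :
    cls (kpol a c d) + cls (kpol (a + c) g h) =
      cls (kpol c g h) + cls (kpol a (c + g) (d + h + c ^ 4 * g)) := by
  have h8 : ∀ y : F, y ^ 8 = y := fun y => hF ▸ FiniteField.pow_card y
  have e : kpol a c d + kpol (a + c) g h =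
      (kpol c g h + kpol a (c + g) (d + h + c ^ 4 * g)) +
        (a * c ^ 2 * g ^ 4 + (a * c ^ 2 * g ^ 4) ^ 2 + (a * c ^ 2 * g ^ 4) ^ 4) := by
    have ht : a * c ^ 2 * g ^ 4 + (a * c ^ 2 * g ^ 4) ^ 2 + (a * c ^ 2 * g ^ 4) ^ 4 =
        a * c ^ 2 * g ^ 4 + a ^ 2 * c ^ 4 * g + a ^ 4 * c * g ^ 2 := by
      simp only [mul_pow, ← pow_mul]
      rw [show g ^ (4 * 2) = g from h8 g, show c ^ (2 * 4) = c from h8 c,
        show g ^ (4 * 4) = g ^ 2 by rw [show (4 : ℕ) * 4 = 8 * 2 from rfl, pow_mul, h8]]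
    rw [ht]
    simp only [kpol]
    linear_combination ((1) * a ^ 1 * c ^ 1 * h ^ 1 + (2) * a ^ 4 * c ^ 1 * g ^ 2 + (5) * a ^ 3 * c ^ 2 * g ^ 2 + (5) * a ^ 2 * c ^ 3 * g ^ 2 + (-5) * a ^ 1 * c ^ 4 * g ^ 2 + (-1) * a ^ 2 * c ^ 4 * g ^ 1 + (-1) * a ^ 5 * c ^ 1 * g ^ 1 + (-3) * a ^ 1 * c ^ 5 * g ^ 1 + (-10) * a ^ 1 * c ^ 3 * g ^ 3 + (-8) * a ^ 1 * c ^ 2 * g ^ 4 + (-3) * a ^ 1 * c ^ 1 * g ^ 5) * h2
  have h3 := congrArg cls e
  simp only [cls, QuotientAddGroup.mk_add] at h3 ⊢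
  rw [h3, show (QuotientAddGroup.mk (a * c ^ 2 * g ^ 4) : Ker F) + _ + _ = cls _ from
    (by rw [← QuotientAddGroup.mk_add, ← QuotientAddGroup.mk_add]), cls_trace hF h2, add_zero]

/-- The extension: a class and coordinates. -/
@[ext]
structure Cov (F : Type u) [Field F] [Fintype F] (hF : Fintype.card F = 8) where
  z : Ker F
  a : F
  b : F
  t : Fˣ

variable [Fintype F] {hF : Fintype.card F = 8}

theorem twist (hF : Fintype.card F = 8) : Twist F 4 := by
  simpa using twist_of_card (F := F) (m := 1) (by rw [hF]; norm_num)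

theorem units_pow_seven (hF : Fintype.card F = 8) (t : Fˣ) : (t : F) ^ 7 = 1 := by
  have := FiniteField.pow_card_sub_one_eq_one (t : F) t.ne_zero
  rwa [hF] at this

instance covOne : One (Cov F hF) := ⟨⟨0, 0, 0, 1⟩⟩

instance covMul : Mul (Cov F hF) := ⟨fun x y =>
  ⟨x.z + y.z + cls (kpol x.a ((x.t : F) ^ 4 * y.a) ((x.t : F) ^ 6 * y.b)),
    x.a + (x.t : F) ^ 4 * y.a,
    x.b + (x.t : F) ^ 6 * y.b + x.a ^ 4 * ((x.t : F) ^ 4 * y.a), x.t * y.t⟩⟩

instance covInv : Inv (Cov F hF) := ⟨fun x =>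
  ⟨-x.z - cls (kpol ((x.t : F)⁻¹ ^ 4 * x.a) ((x.t : F)⁻¹ ^ 4 * x.a) ((x.t : F)⁻¹ ^ 6 * x.b)),
    (x.t : F)⁻¹ ^ 4 * x.a,
    (x.t : F)⁻¹ ^ 6 * x.b + ((x.t : F)⁻¹ ^ 4 * x.a) ^ 4 * ((x.t : F)⁻¹ ^ 4 * x.a), x.t⁻¹⟩⟩

theorem mul_def' (x y : Cov F hF) : x * y =
    ⟨x.z + y.z + cls (kpol x.a ((x.t : F) ^ 4 * y.a) ((x.t : F) ^ 6 * y.b)),
      x.a + (x.t : F) ^ 4 * y.a,
      x.b + (x.t : F) ^ 6 * y.b + x.a ^ 4 * ((x.t : F) ^ 4 * y.a), x.t * y.t⟩ := rfl

theorem one_def' : (1 : Cov F hF) = ⟨0, 0, 0, 1⟩ := rfl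

theorem inv_def' (x : Cov F hF) : x⁻¹ =
    ⟨-x.z - cls (kpol ((x.t : F)⁻¹ ^ 4 * x.a) ((x.t : F)⁻¹ ^ 4 * x.a) ((x.t : F)⁻¹ ^ 6 * x.b)),
      (x.t : F)⁻¹ ^ 4 * x.a,
      (x.t : F)⁻¹ ^ 6 * x.b + ((x.t : F)⁻¹ ^ 4 * x.a) ^ 4 * ((x.t : F)⁻¹ ^ 4 * x.a), x.t⁻¹⟩ := rfl

instance covGroup : Group (Cov F hF) where
  mul_assoc x y w := by
    have h2 := (twist hF).two
    have h7 := units_pow_seven hF x.t
    set s : F := (x.t : F) ^ 4 with hs
    have hs7 : s ^ 7 = 1 := by rw [hs, ← pow_mul, mul_comm, pow_mul, h7, one_pow]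
    have h6 : (x.t : F) ^ 6 = s ^ 5 := by
      rw [hs, ← pow_mul, show 4 * 5 = 7 * 2 + 6 from rfl, pow_add, pow_mul, h7, one_pow, one_mul]
    refine Cov.ext ?_ ?_ ?_ (mul_assoc _ _ _)
    · have hsc := congrArg cls (kpol_scale hs7 y.a ((y.t : F) ^ 4 * w.a) ((y.t : F) ^ 6 * w.b))
      have hco := kpol_cocycle hF h2 x.a (s * y.a) (s ^ 5 * y.b) (s * ((y.t : F) ^ 4 * w.a))
        (s ^ 5 * ((y.t : F) ^ 6 * w.b))
      rw [hsc] at hco
      simp only [mul_def', Units.val_mul, mul_pow, h6, ← hs, mul_add, mul_assoc] at hco ⊢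
      ring_nf at hco ⊢
      linear_combination (norm := abel) hco
    · simp only [mul_def', Units.val_mul, mul_pow, ← hs]; ring
    · simp only [mul_def', Units.val_mul, mul_pow, h6, ← hs, (twist hF).add_pow]
      linear_combination x.a ^ 4 * s * 0 * h2
  one_mul x := by
    ext
    · simp [mul_def', one_def', kpol]
    all_goals simp [mul_def', one_def']
  mul_one x := by
    ext
    · simp [mul_def', one_def', kpol]
    all_goals simp [mul_def', one_def']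
  inv_mul_cancel x := by
    have h2 := (twist hF).two
    refine Cov.ext ?_ ?_ ?_ (inv_mul_cancel _)
    · simp only [mul_def', inv_def', one_def', Units.val_inv_eq_inv_val]
      abel
    · simp only [mul_def', inv_def', one_def', Units.val_inv_eq_inv_val]
      linear_combination ((x.t : F)⁻¹ ^ 4 * x.a) * h2
    · simp only [mul_def', inv_def', one_def', Units.val_inv_eq_inv_val]
      linear_combination ((x.t : F)⁻¹ ^ 6 * x.b + ((x.t : F)⁻¹ ^ 4 * x.a) ^ 5) * h2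

noncomputable instance covFinite : Finite (Cov F hF) :=
  Finite.of_injective (fun x : Cov F hF => (x.z, x.a, x.b, x.t)) fun x y h => by
    simp only [Prod.mk.injEq] at h
    exact Cov.ext h.1 h.2.1 h.2.2.1 h.2.2.2

/-- The projection to the Suzuki group. -/
noncomputable def covHom (hF : Fintype.card F = 8) : Cov F hF →* Sz F 4 where
  toFun x := P (twist hF) x.a x.b * H 4 (twist hF) x.t
  map_one' := by
    show P (twist hF) 0 0 * H 4 (twist hF) 1 = 1
    rw [P_zero, H_one, one_mul]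
  map_mul' x y := (borel_mul (twist hF) x.a x.b y.a y.b x.t y.t).symm

theorem covHom_apply (x : Cov F hF) :
    covHom hF x = P (twist hF) x.a x.b * H 4 (twist hF) x.t := rfl

theorem covHom_eq_one {x : Cov F hF} : covHom hF x = 1 ↔ x.a = 0 ∧ x.b = 0 ∧ x.t = 1 := by
  constructor
  · intro h
    have h' : covHom hF x = covHom hF 1 := by rw [h, map_one]
    have := (borel_equiv_bijective (twist hF)).1 (a₁ := (x.a, x.b, x.t)) (a₂ := (0, 0, 1)) (Subtype.ext h')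
    simpa using this
  · rintro ⟨ha, hb, ht⟩
    rw [covHom_apply, ha, hb, ht, P_zero, H_one, one_mul]

theorem range_covHom : (covHom hF).range = borel F 4 := by
  refine le_antisymm ?_ fun g hg => ?_
  · rintro _ ⟨x, rfl⟩
    exact mul_mem (P_mem_borel _ _ _) (H_mem_borel _ _)
  · obtain ⟨a, b, t, rfl⟩ := exists_borel_eq (twist hF) g hg
    exact ⟨⟨0, a, b, t⟩, rfl⟩

theorem ker_le_center : (covHom hF).ker ≤ Subgroup.center (Cov F hF) := by
  intro x hx
  obtain ⟨ha, hb, ht⟩ := covHom_eq_one.1 hx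
  rw [Subgroup.mem_center_iff]
  intro g
  ext
  · simp [mul_def', ha, hb, ht, kpol, add_comm]
  all_goals simp [mul_def', ha, hb, ht]

end CfsgLib.Schur.SzEight
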