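import Cfsg.Agent.Lib.KnownA.SuzukiMultiplier
import Cfsg.Agent.Lib.Schur.SzEight.Cocycle

/-!
The kernel of a stem extension of `Sz(8)` has at most four elements: the pairing of the two layers of a
Sylow 2-subgroup is `(x, y) ↦ f (x² y)`, and a conjugation identity shows that `f` kills one.
-/

set_option autoImplicit false
set_option linter.unusedSectionVars false

namespace CfsgLib.Schur.SzEight

open Cfsg.Lie CfsgLib.KnownB.SzElem CfsgLib.KnownB.Suzuki CfsgLib.KnownA.SuzukiMultiplier
open scoped commutatorElement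

section Pairing

variable {F : Type*} [Field F] [Fintype F] {e : ℕ} (he : Twist F e)
variable {E : Type*} [Group E] {π : E →* Sz F e} (hπ : Function.Surjective π)
  (hk : π.ker ≤ Subgroup.center E)

include hπ hk in
/-- If the two layers commute upstairs, the commutator subgroup of the preimage meets the kernel trivially. -/
theorem eq_one_of_pairing {u : F} (hu0 : u ≠ 0) (hu1 : u + 1 ≠ 0) (hu2 : u * u + u + 1 ≠ 0)
    (hstep2 : ∀ a c, gam π hπ (P he a 0) (P he 0 c) = 1) {z : E} (hz : π z = 1)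
    (hd : z ∈ (commutator ((uGroup he).comap π)).map ((uGroup he).comap π).subtype) :
    z = 1 := by
  have h2 := he.two
  have h0 : (0 : F) ^ e = 0 := zero_pow (Nat.ne_zero_of_lt he.one_lt)
  have hadd : ∀ w : F, w + w = 0 := fun w => by linear_combination w * h2
  set g := gam π hπ with hg
  set s := Function.surjInv hπ with hs
  have hfix : ∀ (x : E) {w : E}, π w = 1 → x * w * x⁻¹ = w := fun x w hw => by
    rw [comm_of_ker hk hw, mul_inv_cancel_right]
  have hgc : ∀ {u v : Sz F e}, Commute u v → π (g u v) = 1 := fun {u v} h => by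
    rw [hg, map_gam, commutatorElement_eq_one_iff_mul_comm]
    exact h.eq
  have hconjP : ∀ (t : Fˣ) (a b : F), H e he t * P he a b * (H e he t)⁻¹ =
      P he ((t : F) ^ e * a) ((t : F) ^ (e + 2) * b) := H_conj_P he
  -- step 1: the preimage of the centre is abelian
  have step1 : ∀ b b', g (P he 0 b) (P he 0 b') = 1 := by
    refine alt_pairing_trivial h2 (fun b b' => g (P he 0 b) (P he 0 b')) ?_ ?_ ?_ ?_ hu0 hu1 hu2
    · intro x y w
      show g (P he 0 (x + y)) _ = _
      rw [add_comm x y, show P he 0 (y + x) = P he 0 y * P he 0 x by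
        rw [P_mul]; congr 1 <;> simp [h0]]
      exact gam_mul_left hπ hk _ _ _ (gam_central hπ hk (commute_P0 he 0 _ _) _)
    · intro x y w
      show g _ (P he 0 (y + w)) = _
      rw [show P he 0 (y + w) = P he 0 y * P he 0 w by rw [P_mul]; congr 1 <;> simp [h0]]
      exact gam_mul_right hπ hk _ _ _ (gam_central hπ hk (commute_P0 he 0 _ _) _)
    · exact fun x => gam_self hπ hk _
    · intro l hl x y
      obtain ⟨t, ht⟩ := pow_add_two_surjective he (Units.mk0 l hl)
      have ht' : (t : F) ^ (e + 2) = l := by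
        simpa using congrArg Units.val ht
      have h := conj_gam hπ hk (s (H e he t)) (P he 0 x) (P he 0 y)
      rw [hfix _ (hgc (commute_P0 he 0 x y)), Function.surjInv_eq hπ, hconjP, hconjP, mul_zero,
        ht'] at h
      exact h.symm
  have hZ : ∀ {x y : E} {b b' : F}, π x = P he 0 b → π y = P he 0 b' → Commute x y :=
    fun {x y b b'} hx hy => commutatorElement_eq_one_iff_mul_comm.1
      (by rw [commutator_eq_gam hπ hk, hx, hy]; exact step1 b b')
  have step2 := hstep2
  have hcentral : ∀ {x y : E} {a b c : F}, π x = P he a b → π y = P he 0 c → Commute x y :=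
    fun {x y a b c} hx hy => commutatorElement_eq_one_iff_mul_comm.1 (by
      rw [commutator_eq_gam hπ hk, hx, hy, P_split, gam_mul_left hπ hk _ _ _
        (gam_central hπ hk (commute_P0 he 0 _ _) _), ← hg, step1, step2, one_mul])
  -- the torus-equivariant lift of the centre
  obtain ⟨l₀, hl₀ : l₀ ^ e = u⟩ := pow_e_surjective he u
  have hl₀0 : l₀ ≠ 0 := by
    rintro rfl
    exact hu0 (by rw [← hl₀, h0])
  set t₀ : Fˣ := Units.mk0 l₀ hl₀0
  set k : F := (t₀ : F) ^ (e + 2) + 1 with hkdef
  have hk0 : k ≠ 0 := by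
    intro h
    have h1 : l₀ ^ (e + 2) = 1 := by
      rw [hkdef, Units.val_mk0] at h
      linear_combination h - h2
    have := eq_one_of_pow_add_two he h1
    apply hu1
    rw [← hl₀, this]
    simp [hadd]
  set ζ : F → E := fun b => g (H e he t₀) (P he 0 (k⁻¹ * b)) with hζdef
  have hmapζ : ∀ b, π (ζ b) = P he 0 b := by
    intro b
    rw [hζdef, hg, map_gam, commutatorElement_def, hconjP, P_inv, P_mul, mul_zero]
    congr 1
    · exact add_zero 0
    · rw [h0, zero_mul, add_zero, add_zero]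
      calc _ = (k * k⁻¹) * b := by rw [hkdef]; ring
        _ = b := by rw [mul_inv_cancel₀ hk0, one_mul]
  have hζadd : ∀ b b', ζ (b + b') = ζ b * ζ b' := by
    intro b b'
    simp only [hζdef]
    rw [mul_add, show P he 0 (k⁻¹ * b + k⁻¹ * b') = P he 0 (k⁻¹ * b) * P he 0 (k⁻¹ * b') by
      rw [P_mul]; congr 1 <;> simp [h0]]
    exact gam_mul_right hπ hk _ _ _ (hZ (Function.surjInv_eq hπ _) (hmapζ b'))
  have hζ0 : ζ 0 = 1 := by
    have h := hζadd 0 0
    rwa [add_zero, left_eq_mul] at h
  have hζconj : ∀ (t : Fˣ) (b : F),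
      s (H e he t) * ζ b * (s (H e he t))⁻¹ = ζ ((t : F) ^ (e + 2) * b) := by
    intro t b
    simp only [hζdef, hg]
    rw [conj_gam hπ hk, Function.surjInv_eq hπ, H_comm, hconjP, mul_zero, mul_left_comm]
  -- step 3: commutators lie in the lift
  set w : F → F → F := fun a c => a ^ e * c + c ^ e * a with hwdef
  set r : F → F → E := fun a c => g (P he a 0) (P he c 0) * (ζ (w a c))⁻¹ with hrdef
  have hmapr : ∀ a c, π (r a c) = 1 := fun a c => by
    simp only [hrdef, hg]
    rw [map_mul, map_inv, map_gam, hmapζ, P_commutator, mul_inv_cancel]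
  have hgZ : ∀ a c, π (g (P he a 0) (P he c 0)) = P he 0 (w a c) := fun a c => by
    rw [hg, map_gam, P_commutator]
  have step3 : ∀ a c, r a c = 1 := by
    refine alt_pairing_trivial h2 r ?_ ?_ ?_ ?_ hu0 hu1 hu2
    · intro x y c
      simp only [hrdef]
      rw [show P he (x + y) 0 = (P he y 0 * P he x 0) * P he 0 (y ^ e * x) by
        rw [P_mul, P_mul]; congr 1 <;> grind]
      rw [hg, gam_mul_left hπ hk _ _ _ (gam_central hπ hk (commute_P0 he _ _ _).symm _),
        gam_mul_left hπ hk _ _ _ (hcentral (Function.surjInv_eq hπ _) (hgZ x c)), ← hg]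
      have h1 : g (P he 0 (y ^ e * x)) (P he c 0) = 1 := by
        have h := commutatorElement_eq_one_iff_mul_comm.2
          (hcentral (Function.surjInv_eq hπ (P he c 0))
            (Function.surjInv_eq hπ (P he 0 (y ^ e * x)))).symm.eq
        exact h
      rw [h1, one_mul, show w (x + y) c = w y c + w x c by
        simp only [hwdef, he.add_pow]; ring, hζadd, mul_inv_rev]
      simp only [mul_assoc]
      congr 1
      rw [← mul_assoc, (hZ (hgZ y c) (show π (ζ (w x c))⁻¹ = P he 0 _ by
        rw [map_inv, hmapζ, P_inv])).eq, mul_assoc]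
    · intro x y c
      simp only [hrdef]
      rw [show P he (y + c) 0 = (P he y 0 * P he c 0) * P he 0 (y ^ e * c) by
        rw [P_mul, P_mul]; congr 1 <;> grind]
      rw [hg, gam_mul_right hπ hk _ _ _ (gam_central hπ hk (commute_P0 he _ _ _) _),
        gam_mul_right hπ hk _ _ _ (hcentral (Function.surjInv_eq hπ _) (hgZ x c)), ← hg]
      rw [step2, mul_one, show w x (y + c) = w x c + w x y by
        simp only [hwdef, he.add_pow]; ring, hζadd, mul_inv_rev]
      simp only [mul_assoc]
      congr 1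
      rw [← mul_assoc, (hZ (hgZ x c) (show π (ζ (w x y))⁻¹ = P he 0 _ by
        rw [map_inv, hmapζ, P_inv])).eq, mul_assoc]
    · intro x
      simp only [hrdef, hg, hwdef]
      rw [gam_self hπ hk, hadd, hζ0, inv_one, one_mul]
    · intro l hl x y
      obtain ⟨t, ht⟩ := pow_e_surjective he l
      have ht' : (t : F) ^ e = l := ht
      have ht0 : t ≠ 0 := by
        rintro rfl
        exact hl (by rw [← ht', h0])
      have h := hfix (s (H e he (Units.mk0 t ht0))) (hmapr x y)
      simp only [hrdef] at h ⊢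
      rw [show ∀ p a b : E, p * (a * b⁻¹) * p⁻¹ = (p * a * p⁻¹) * (p * b * p⁻¹)⁻¹ from
        fun p a b => by group, hζconj, hg, conj_gam hπ hk, Function.surjInv_eq hπ, hconjP,
        hconjP, Units.val_mk0, ht', mul_zero] at h
      rw [← h, hg]
      congr 3
      simp only [hwdef, mul_pow]
      rw [show l ^ e = t ^ 2 by rw [← ht', he.pow_pow]]
      linear_combination -(x ^ e * y + y ^ e * x) * t ^ 2 * ht'
  -- conclusion
  let S : Subgroup E :=
    { carrier := Set.range ζ
      one_mem' := ⟨0, hζ0⟩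
      mul_mem' := by
        rintro _ _ ⟨a, rfl⟩ ⟨b, rfl⟩
        exact ⟨a + b, hζadd a b⟩
      inv_mem' := by
        rintro _ ⟨a, rfl⟩
        exact ⟨a, (inv_eq_of_mul_eq_one_right (by rw [← hζadd, hadd, hζ0])).symm⟩ }
  have hle : (commutator ((uGroup he).comap π)).map ((uGroup he).comap π).subtype ≤ S := by
    rw [Subgroup.map_le_iff_le_comap, _root_.commutator_def, Subgroup.commutator_le]
    rintro ⟨x, hx⟩ - ⟨y, hy⟩ -
    obtain ⟨⟨a, b⟩, hab : P he a b = π x⟩ := hx
    obtain ⟨⟨c, d⟩, hcd : P he c d = π y⟩ := hy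
    show ⁅x, y⁆ ∈ S
    refine ⟨w a c, ?_⟩
    have h3 := step3 a c
    simp only [hrdef] at h3
    have hb : Commute (s (P he a 0)) (g (P he 0 b) (π y)) :=
      gam_central hπ hk (hcd ▸ (commute_P0 he c d b).symm) _
    have hd' : ∀ a, g (P he a 0) (P he c d) = g (P he a 0) (P he c 0) := fun a => by
      rw [P_split he c d, hg, gam_mul_right hπ hk _ _ _
        (gam_central hπ hk (commute_P0 he a 0 d) _), ← hg, step2, mul_one]
    rw [commutator_eq_gam hπ hk, ← hab, P_split he a b, gam_mul_left hπ hk _ _ _ hb, ← hcd,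
      ← hg, hd', show g (P he 0 b) (P he c d) = 1 from commutatorElement_eq_one_iff_mul_comm.2
        (hcentral (Function.surjInv_eq hπ (P he c d))
          (Function.surjInv_eq hπ (P he 0 b))).symm.eq, one_mul]
    exact (mul_inv_eq_one.1 h3).symm
  obtain ⟨b, rfl⟩ := hle hd
  rw [hmapζ, ← P_zero he] at hz
  rw [(P_injective he hz).2, hζ0]

end Pairing

universe u v

/-- A root of `X³ + X + 1`. -/
theorem exists_alpha {F : Type u} [Field F] [Fintype F] (hF : Fintype.card F = 8) :
    ∃ α : F, α ^ 3 + α + 1 = 0 := by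
  classical
  have h2 := (twist hF).two
  obtain ⟨u, -, hu0, hu1⟩ : ∃ u ∈ (Finset.univ : Finset F), u ≠ 0 ∧ u ≠ 1 := by
    by_contra h
    push_neg at h
    have hle : Fintype.card F ≤ ({0, 1} : Finset F).card := Finset.card_le_card fun x hx => by
      rcases eq_or_ne x 0 with rfl | h0
      · simp
      · simp [h x hx h0]
    have := Finset.card_le_two (a := (0 : F)) (b := 1)
    omega
  have h7 : u ^ 7 = 1 := by simpa using units_pow_seven hF (Units.mk0 u hu0)
  have h : (u - 1) * ((u ^ 3 + u + 1) * (u ^ 3 + u ^ 2 + 1)) = 0 := by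
    linear_combination h7 + (u ^ 4 - u ^ 3) * h2
  rcases mul_eq_zero.1 h with h | h
  · exact absurd (sub_eq_zero.1 h) hu1
  rcases mul_eq_zero.1 h with h | h
  · exact ⟨u, h⟩
  · refine ⟨u⁻¹, ?_⟩
    field_simp
    linear_combination h

theorem alpha_facts {F : Type u} [Field F] [Fintype F] (hF : Fintype.card F = 8) {α : F}
    (hα : α ^ 3 + α + 1 = 0) : α ≠ 0 ∧ α + 1 ≠ 0 ∧ α * α + α + 1 ≠ 0 := by
  have h2 := (twist hF).two
  refine ⟨?_, ?_, ?_⟩
  · rintro rfl; simp at hα
  · intro h
    exact one_ne_zero (α := F) (by linear_combination hα - (α ^ 2 - α + 2) * h + h2)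
  · intro h
    have h3 : α = 0 := by linear_combination hα - (α - 1) * h - h2
    subst h3
    simp at h

section Kernel

variable {F : Type u} [Field F] [Fintype F] (hF : Fintype.card F = 8)
variable {E : Type v} [Group E] {π : E →* Sz F 4} (hπ : Function.Surjective π)
  (hk : π.ker ≤ Subgroup.center E)

include hF hπ hk in
/-- The pairing of the two layers takes its values in a central subgroup of order at most four. -/
theorem exists_small :
    ∃ D : Subgroup E, D ≤ π.ker ∧ Nat.card D ≤ 4 ∧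
      ∀ a c, gam π hπ (P (twist hF) a 0) (P (twist hF) 0 c) ∈ D := by
  obtain ⟨α, hα⟩ := exists_alpha hF
  obtain ⟨hu0, hu1, hu2⟩ := alpha_facts hF hα
  set he := twist hF
  have h2 := he.two
  have h0 : (0 : F) ^ 4 = 0 := zero_pow (by norm_num)
  have hP0 : ∀ x y : F, P he 0 (x + y) = P he 0 x * P he 0 y := fun x y => by
    rw [P_mul]; congr 1 <;> simp
  set g := gam π hπ with hg
  set s := Function.surjInv hπ with hs
  have hconjP : ∀ (t : Fˣ) (a b : F), H 4 he t * P he a b * (H 4 he t)⁻¹ =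
      P he ((t : F) ^ 4 * a) ((t : F) ^ (4 + 2) * b) := H_conj_P he
  have hfix : ∀ (x : E) {w : E}, π w = 1 → x * w * x⁻¹ = w := fun x w hw => by
    rw [comm_of_ker hk hw, mul_inv_cancel_right]
  have hgc : ∀ {u v : Sz F 4}, Commute u v → π (g u v) = 1 := fun {u v} h => by
    rw [hg, map_gam, commutatorElement_eq_one_iff_mul_comm]
    exact h.eq
  have step1 : ∀ b b', g (P he 0 b) (P he 0 b') = 1 := by
    refine alt_pairing_trivial h2 (fun b b' => g (P he 0 b) (P he 0 b')) ?_ ?_ ?_ ?_ hu0 hu1 hu2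
    · intro x y w
      show g (P he 0 (x + y)) _ = _
      rw [add_comm x y, hP0]
      exact gam_mul_left hπ hk _ _ _ (gam_central hπ hk (commute_P0 he 0 _ _) _)
    · intro x y w
      show g _ (P he 0 (y + w)) = _
      rw [hP0]
      exact gam_mul_right hπ hk _ _ _ (gam_central hπ hk (commute_P0 he 0 _ _) _)
    · exact fun x => gam_self hπ hk _
    · intro l hl x y
      obtain ⟨t, ht⟩ := pow_add_two_surjective he (Units.mk0 l hl)
      have ht' : (t : F) ^ (4 + 2) = l := by simpa using congrArg Units.val ht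
      have h := conj_gam hπ hk (s (H 4 he t)) (P he 0 x) (P he 0 y)
      rw [hfix _ (hgc (commute_P0 he 0 x y)), Function.surjInv_eq hπ, hconjP, hconjP, mul_zero, ht'] at h
      exact h.symm
  let d : F → F → E := fun a c => g (P he a 0) (P he 0 c)
  have hd1 : ∀ a c, π (d a c) = 1 := fun a c => hgc (commute_P0 he a 0 c)
  have hdl : ∀ x y w, d (x + y) w = d x w * d y w := by
    intro x y w
    show g (P he (x + y) 0) _ = _
    rw [show P he (x + y) 0 = (P he y 0 * P he x 0) * P he 0 (y ^ 4 * x) by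
      rw [P_mul, P_mul]; congr 1 <;> grind]
    rw [hg, gam_mul_left hπ hk _ _ _ (gam_central hπ hk (commute_P0 he 0 _ _) _),
      gam_mul_left hπ hk _ _ _ (gam_central hπ hk (commute_P0 he _ _ _) _)]
    rw [← hg, step1, one_mul]
  have hdr : ∀ x y w, d x (y + w) = d x y * d x w := by
    intro x y w
    show g _ (P he 0 (y + w)) = _
    rw [hP0]
    exact gam_mul_right hπ hk _ _ _ (gam_central hπ hk (commute_P0 he _ _ _) _)
  let f : Multiplicative F →* E := MonoidHom.mk' (fun y => d 1 y.toAdd) fun x y => hdr 1 x.toAdd y.toAdd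
  have hf : ∀ y, f (Multiplicative.ofAdd y) = d 1 y := fun y => rfl
  have hzero : ∀ c, d 0 c = 1 := fun c => by
    have h := hdl 0 0 c
    rwa [add_zero, left_eq_mul] at h
  have hzero' : ∀ a, d a 0 = 1 := fun a => by
    have h := hdr a 0 0
    rwa [add_zero, left_eq_mul] at h
  have hd : ∀ x y, d x y = d 1 (x ^ 2 * y) := by
    intro x y
    rcases eq_or_ne x 0 with rfl | hx
    · rw [hzero, zero_pow two_ne_zero, zero_mul, hzero']
    obtain ⟨t, ht⟩ := pow_e_surjective he x
    have ht' : t ^ 4 = x := ht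
    have ht0 : t ≠ 0 := by
      rintro rfl
      exact hx (by rw [← ht', h0])
    have h7 : x ^ 7 = 1 := by simpa using units_pow_seven hF (Units.mk0 x hx)
    have h := conj_gam hπ hk (s (H 4 he (Units.mk0 t ht0))) (P he 1 0) (P he 0 (x ^ 2 * y))
    rw [hfix _ (hgc (commute_P0 he 1 0 _)), Function.surjInv_eq hπ, hconjP, hconjP, Units.val_mk0] at h
    rw [show t ^ (4 + 2) = x ^ 5 from ?_, ht', mul_one, mul_zero, mul_zero] at h
    · rw [show x ^ 5 * (x ^ 2 * y) = y by linear_combination y * h7] at h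
      exact h.symm
    · have t7 : t ^ 7 = 1 := by simpa using units_pow_seven hF (Units.mk0 t ht0)
      rw [← ht']
      linear_combination (-(t ^ 13) - t ^ 6) * t7
  have hcomm : ∀ u b, g (P he 0 u) (P he b 0) = (d b u)⁻¹ := fun u b => (commutatorElement_inv _ _).symm
  have hinv : ∀ y, (d 1 y)⁻¹ = d 1 y := fun y => by
    rw [inv_eq_iff_mul_eq_one, ← hdr, show y + y = 0 by linear_combination y * h2, hzero']
  have hone : d 1 1 = 1 := by
    set wab : F := (1 : F) ^ 4 * α + α ^ 4 * 1
    set u : F := (α ^ 2) ^ 4 * 1 + (1 : F) ^ 4 * α ^ 2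
    set v : F := (α ^ 2) ^ 4 * α + α ^ 4 * α ^ 2
    set x := g (P he 1 0) (P he α 0) with hxdef
    have hx : π x = P he 0 wab := by rw [hxdef, hg, map_gam, P_commutator]
    have hconj : ∀ a : F, P he (α ^ 2) 0 * P he a 0 * (P he (α ^ 2) 0)⁻¹ =
        P he a 0 * P he 0 ((α ^ 2) ^ 4 * a + a ^ 4 * α ^ 2) := by
      intro a
      rw [P_inv, P_mul, P_mul, P_mul]
      congr 1 <;> grind [he.add_pow]
    have h := conj_gam hπ hk (s (P he (α ^ 2) 0)) (P he 1 0) (P he α 0)
    rw [Function.surjInv_eq hπ, hconj, hconj] at h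
    rw [gam_mul_left hπ hk (P he 1 0) (P he 0 u) (P he α 0 * P he 0 v)
        (gam_central hπ hk ((commute_P0 he α 0 u).symm.mul_right (commute_P0 he 0 v u).symm) _),
      gam_mul_right hπ hk (P he 0 u) (P he α 0) (P he 0 v) (gam_central hπ hk (commute_P0 he 0 u v) _),
      gam_mul_right hπ hk (P he 1 0) (P he α 0) (P he 0 v) (gam_central hπ hk (commute_P0 he 1 0 v) _)] at h
    rw [← hg, hcomm, step1, mul_one] at h
    have h3 : ⁅s (P he (α ^ 2) 0), x⁆ = d (α ^ 2) wab := by
      rw [commutator_eq_gam hπ hk, Function.surjInv_eq hπ, hx]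
    rw [commutatorElement_def] at h3
    have h4 : d (α ^ 2) wab * x = (d α u)⁻¹ * (x * d 1 v) := by
      rw [← h3, inv_mul_cancel_right]; exact h
    rw [← comm_of_ker hk (hd1 _ _) x] at h4
    rw [← mul_assoc, ← comm_of_ker hk (show π (d α u)⁻¹ = 1 by rw [map_inv, hd1, inv_one]) x, mul_assoc] at h4
    have h5 := mul_left_cancel h4
    rw [hd (α ^ 2), hd α, hinv, ← hdr] at h5
    have h6 : d 1 ((α ^ 2) ^ 2 * wab + (α ^ 2 * u + v)) = 1 := by
      rw [hdr, h5, ← hdr, show α ^ 2 * u + v + (α ^ 2 * u + v) = 0 from by linear_combination (α ^ 2 * u + v) * h2,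
        hzero']
    rwa [show (α ^ 2) ^ 2 * wab + (α ^ 2 * u + v) = 1 from by simp only [wab, u, v]; grind] at h6
  refine ⟨f.range, ?_, ?_, fun a c => ⟨Multiplicative.ofAdd (a ^ 2 * c), (hf _).trans (hd a c).symm⟩⟩
  · rintro _ ⟨y, rfl⟩
    exact hd1 1 _
  · have hc : Nat.card f.ker * f.ker.index = 8 := by
      rw [Subgroup.card_mul_index, Nat.card_congr Multiplicative.toAdd, Nat.card_eq_fintype_card, hF]
    have h1 : 2 ≤ Nat.card f.ker := by
      haveI : Nontrivial f.ker := ⟨⟨⟨Multiplicative.ofAdd (1 : F), hone⟩, 1, fun h => one_ne_zero (α := F)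
        (congrArg (fun z : f.ker => Multiplicative.toAdd (z : Multiplicative F)) h)⟩⟩
      exact Finite.one_lt_card
    rw [← Subgroup.index_ker]
    nlinarith

end Kernel

/-- The bound. -/
theorem card_ker_le {F : Type u} [Field F] [Fintype F] (hF : Fintype.card F = 8)
    (Γ : Type v) [Group Γ] [Finite Γ] (σ : Γ →* Sz F 4) (hσ : Cfsg.IsStemExtension σ) :
    Nat.card σ.ker ≤ 4 := by
  obtain ⟨hsurj, hk, hd⟩ := hσ
  obtain ⟨α, hα⟩ := exists_alpha hF
  obtain ⟨hu0, hu1, hu2⟩ := alpha_facts hF hα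
  obtain ⟨D, hDk, hD, hmem⟩ := exists_small hF hsurj hk
  haveI : D.Normal := ⟨fun n hn g => by rw [comm_of_ker hk (hDk hn), mul_inv_cancel_right]; exact hn⟩
  let q := QuotientGroup.mk' D
  let τ : Γ ⧸ D →* Sz F 4 := QuotientGroup.lift D σ hDk
  have hτ : Function.Surjective τ := fun y => by
    obtain ⟨x, hx⟩ := hsurj y
    exact ⟨q x, hx⟩
  have hτk : τ.ker ≤ Subgroup.center (Γ ⧸ D) := by
    intro y hy
    obtain ⟨x, rfl⟩ := QuotientGroup.mk'_surjective D y
    rw [Subgroup.mem_center_iff]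
    intro g
    obtain ⟨g, rfl⟩ := QuotientGroup.mk'_surjective D g
    rw [← map_mul, ← map_mul, comm_of_ker hk (show σ x = 1 from hy)]
  have hp : Params F 4 := by
    simpa using params_of_card (F := F) (m := 1) le_rfl (by rw [hF]; norm_num)
  have hstep : ∀ a c, gam τ hτ (P hp.twist a 0) (P hp.twist 0 c) = 1 := by
    intro a c
    refine Eq.trans ?_ ((QuotientGroup.eq_one_iff _).2 (hmem a c))
    rw [gam, gam]
    show _ = q _
    rw [map_commutatorElement, commutator_eq_gam hτ hτk, commutator_eq_gam hτ hτk, Function.surjInv_eq hτ,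
      Function.surjInv_eq hτ]
    show gam τ hτ _ _ = gam τ hτ (σ _) (σ _)
    rw [Function.surjInv_eq hsurj, Function.surjInv_eq hsurj]
  have hall : ∀ z ∈ τ.ker, z ∈ commutator (Γ ⧸ D) → z = 1 := by
    intro z hz hd
    refine CfsgLib.Schur.Bound.eq_one_of_pow_index z _ Nat.card_pos.ne' (fun p hpp _ => ?_)
      (CfsgLib.Schur.Bound.pow_card_eq_one τ hτ hτk hz hd)
    haveI := Fact.mk hpp
    rcases eq_or_ne p 2 with rfl | hp2
    · refine ⟨(uGroup hp.twist).index, not_two_dvd_index hp.twist, ?_⟩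
      exact eq_one_of_pairing hp.twist hτ hτk hu0 hu1 hu2 hstep
        (by rw [map_pow, show τ z = 1 from hz, one_pow])
        (CfsgLib.Schur.Bound.pow_index_mem τ hτ _ (hτk hz) hd)
    · obtain ⟨R⟩ : Nonempty (Sylow p (Sz F 4)) := inferInstance
      haveI := isCyclic_sylow hp hp2 R
      exact ⟨(R : Subgroup (Sz F 4)).index, R.not_dvd_index,
        CfsgLib.Schur.Bound.pow_index_eq_one_of_cyclic τ hτ hτk _ hz hd⟩
  refine le_trans (Nat.le_of_dvd Nat.card_pos (Subgroup.card_dvd_of_le fun x hx => ?_)) hD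
  have hle : (commutator Γ).map q ≤ commutator (Γ ⧸ D) := by
    rw [_root_.commutator_def, Subgroup.map_commutator]
    exact Subgroup.commutator_mono le_top le_top
  exact (QuotientGroup.eq_one_iff _).1 (hall (q x) hx (hle ⟨x, hd hx, rfl⟩))

end CfsgLib.Schur.SzEight
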