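import Cfsg.Agent.Lib.Schur.Basic
import Mathlib.Algebra.Group.Action.Basic
import Mathlib.GroupTheory.SemidirectProduct

/-!
Induction of a central extension of a subgroup to the whole group: the monomial group on the cosets, with
the kernel multiplied out.  It is a stem extension when the kernel consists of commutators over a subgroup
for which the transversal is equivariant away from one fixed point.
-/

set_option autoImplicit false
set_option linter.unusedSectionVars false

namespace CfsgLib.Schur.SzEight.Induced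

open Subgroup

universe u v w

variable {G : Type u} [Group G] {X : Type v} [Group X] {I : Type w} [MulAction G I]

/-- Conjugating coordinatewise functions by the permutation action. -/
def shift (g : G) : MulAut (I → X) where
  toFun f i := f (g⁻¹ • i)
  invFun f i := f (g • i)
  left_inv f := funext fun i => by simp
  right_inv f := funext fun i => by simp
  map_mul' _ _ := rfl

/-- The action on functions. -/
def act : G →* MulAut (I → X) where
  toFun := shift
  map_one' := MulEquiv.ext fun f => funext fun i => by simp [shift]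
  map_mul' a b := MulEquiv.ext fun f => funext fun i => by simp [shift, mul_smul]

theorem act_apply (g : G) (f : I → X) (i : I) : act g f i = f (g⁻¹ • i) := rfl

theorem act_inv_apply (g : G) (f : I → X) (i : I) : (act g)⁻¹ f i = f (g • i) := rfl

variable (π : X →* G) (r : I → G)

/-- The coordinates lift the cocycle of the transversal. -/
def sub : Subgroup ((I → X) ⋊[act] G) where
  carrier := {x | ∀ i, π (x.left (x.right • i)) = (r (x.right • i))⁻¹ * x.right * r i}
  one_mem' i := by simp
  mul_mem' {x y} hx hy i := by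
    have h1 := hx (y.right • i)
    have h2 := hy i
    simp only [SemidirectProduct.mul_left, SemidirectProduct.mul_right, Pi.mul_apply, map_mul, act_apply,
      mul_smul, inv_smul_smul]
    rw [h1, h2]
    group
  inv_mem' {x} hx i := by
    have h := hx (x.right⁻¹ • i)
    rw [smul_inv_smul] at h
    simp only [SemidirectProduct.inv_left, SemidirectProduct.inv_right, act_inv_apply, Pi.inv_apply,
      map_inv, smul_inv_smul]
    rw [h]
    group

/-- The projection. -/
def proj : sub π r →* G := SemidirectProduct.rightHom.comp (sub π r).subtype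

theorem proj_surjective (h : ∀ g : G, ∀ i : I, (r (g • i))⁻¹ * g * r i ∈ π.range) :
    Function.Surjective (proj π r) := by
  intro g
  choose f hf using fun i => h g (g⁻¹ • i)
  refine ⟨⟨⟨f, g⟩, fun i => ?_⟩, rfl⟩
  show π (f (g • i)) = _
  rw [hf, inv_smul_smul]

theorem left_mem_ker {x : sub π r} (hx : proj π r x = 1) (i : I) : π (x.1.left i) = 1 := by
  have h := x.2 i
  change x.1.right = 1 at hx
  rw [hx, one_smul, mul_one, inv_mul_cancel] at h
  exact h

/-- The centre is commutative. -/
local instance centreComm : CommGroup (center X) :=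
  { (inferInstance : Group (center X)) with
    mul_comm := fun a b => Subtype.ext (mem_center_iff.1 b.2 a) }

variable [Fintype I] (hc : π.ker ≤ center X)
include hc

/-- A coordinate of a kernel element, as a central element. -/
def crd (x : sub π r) (hx : proj π r x = 1) (i : I) : center X :=
  ⟨x.1.left i, hc (left_mem_ker π r hx i)⟩

/-- Multiplying out the coordinates of a kernel element. -/
def val (x : (proj π r).ker) : X := ((∏ i, crd π r hc x.1 x.2 i : center X) : X)

theorem val_mem (x : (proj π r).ker) : val π r hc x ∈ π.ker := by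
  have h : (∏ i, crd π r hc x.1 x.2 i) ∈ π.ker.subgroupOf (center X) :=
    prod_mem fun i _ => left_mem_ker π r x.2 i
  exact h

/-- The product as a homomorphism. -/
def prodHom : (proj π r).ker →* π.ker where
  toFun x := ⟨val π r hc x, val_mem π r hc x⟩
  map_one' := by
    apply Subtype.ext
    have h : ∏ i, crd π r hc (1 : sub π r) (map_one _) i = 1 := Finset.prod_eq_one fun i _ => Subtype.ext rfl
    exact congrArg (fun a : center X => (a : X)) h
  map_mul' x y := by
    apply Subtype.ext
    have hx : x.1.1.right = 1 := x.2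
    have e : ∀ i, crd π r hc (x.1 * y.1) (x * y).2 i = crd π r hc x.1 x.2 i * crd π r hc y.1 y.2 i :=
      fun i => Subtype.ext (by
        show (x.1.1 * y.1.1).left i = x.1.1.left i * y.1.1.left i
        rw [SemidirectProduct.mul_left, Pi.mul_apply, act_apply, hx, inv_one, one_smul])
    have h : ∏ i, crd π r hc (x.1 * y.1) (x * y).2 i =
        (∏ i, crd π r hc x.1 x.2 i) * ∏ i, crd π r hc y.1 y.2 i :=
      (Finset.prod_congr rfl fun i _ => e i).trans Finset.prod_mul_distrib
    exact congrArg (fun a : center X => (a : X)) h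

/-- What is divided out. -/
def triv : Subgroup (sub π r) := (prodHom π r hc).ker.map (proj π r).ker.subtype

theorem mem_triv {x : sub π r} :
    x ∈ triv π r hc ↔ ∃ h : proj π r x = 1, val π r hc ⟨x, h⟩ = 1 := by
  constructor
  · rintro ⟨⟨y, hy⟩, hk, rfl⟩
    exact ⟨hy, congrArg Subtype.val hk⟩
  · rintro ⟨h, hv⟩
    exact ⟨⟨x, h⟩, Subtype.ext hv, rfl⟩

/-- Conjugation permutes the coordinates. -/
theorem val_conj (x g : sub π r) (hx : proj π r x = 1) (h : proj π r (g * x * g⁻¹) = 1) :
    val π r hc ⟨g * x * g⁻¹, h⟩ = val π r hc ⟨x, hx⟩ := by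
  have hxr : x.1.right = 1 := hx
  have e : ∀ i, crd π r hc (g * x * g⁻¹) h i = crd π r hc x hx (g.1.right⁻¹ • i) := fun i => Subtype.ext (by
    show (g.1 * x.1 * g.1⁻¹).left i = x.1.left (g.1.right⁻¹ • i)
    simp only [SemidirectProduct.mul_left, SemidirectProduct.mul_right, SemidirectProduct.inv_left,
      Pi.mul_apply, act_apply, act_inv_apply, Pi.inv_apply, hxr, mul_one, map_inv, smul_inv_smul]
    rw [mem_center_iff.1 (hc (left_mem_ker π r hx _)), mul_inv_cancel_right])
  unfold val
  refine congrArg Subtype.val ((Finset.prod_congr rfl fun i _ => e i).trans ?_)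
  exact Equiv.prod_comp (MulAction.toPerm g.1.right⁻¹) (crd π r hc x hx)

theorem triv_normal : (triv π r hc).Normal := by
  refine ⟨fun x hx g => ?_⟩
  obtain ⟨h, hv⟩ := (mem_triv π r hc).1 hx
  exact (mem_triv π r hc).2 ⟨by rw [map_mul, map_mul, h, map_inv, mul_one, mul_inv_cancel],
    (val_conj π r hc x g h _).trans hv⟩

variable {π r}

omit hc in
/-- The single coordinate over a subgroup fixing the point. -/
theorem exists_lift (o : I) (U : Subgroup G) (hro : r o = 1) (hfix : ∀ u ∈ U, u • o = o)
    (hr : ∀ u ∈ U, ∀ i, i ≠ o → r (u • i) = u * r i) :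
    ∃ j : U.comap π →* sub π r, ∀ e : U.comap π, proj π r (j e) = π e ∧
      (j e).1.left o = e ∧ ∀ i, i ≠ o → (j e).1.left i = 1 := by
  classical
  have hmem : ∀ e : U.comap π, (⟨fun i => if i = o then (e : X) else 1, π e⟩ : (I → X) ⋊[act] G) ∈
      sub π r := by
    intro e i
    show π (if π (e : X) • i = o then (e : X) else 1) = (r (π e • i))⁻¹ * π e * r i
    by_cases h : i = o
    · subst h; rw [hfix _ e.2, if_pos rfl, hro, inv_one, one_mul, mul_one]
    · rw [if_neg fun h' => h (MulAction.injective (π (e : X)) (h'.trans (hfix _ e.2).symm)), map_one,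
        hr _ e.2 _ h]
      group
  refine ⟨{ toFun := fun e => ⟨_, hmem e⟩, map_one' := ?_, map_mul' := ?_ }, fun e => ⟨rfl, if_pos rfl,
    fun i hi => if_neg hi⟩⟩
  · refine Subtype.ext (SemidirectProduct.ext (funext fun i => ?_) ?_)
    · show (if i = o then ((1 : U.comap π) : X) else 1) = 1
      split <;> rfl
    · exact map_one π
  · intro a b
    refine Subtype.ext (SemidirectProduct.ext (funext fun i => ?_) ?_)
    · show (if i = o then ((a * b : U.comap π) : X) else 1) =
        (if i = o then (a : X) else 1) * (if (π (a : X))⁻¹ • i = o then (b : X) else 1)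
      by_cases h : i = o
      · subst h; rw [if_pos rfl, if_pos rfl, if_pos (by rw [inv_smul_eq_iff, hfix _ a.2])]; rfl
      · rw [if_neg h, if_neg h, if_neg (fun h' => h (by rw [inv_smul_eq_iff, hfix _ a.2] at h'; exact h')),
          mul_one]
    · exact map_mul π _ _

/-- The induced extension. -/
theorem exists_stem [Finite G] [Finite X] (hrange : ∀ g : G, ∀ i : I, (r (g • i))⁻¹ * g * r i ∈ π.range)
    (o : I) (U : Subgroup G) (hro : r o = 1) (hfix : ∀ u ∈ U, u • o = o)
    (hr : ∀ u ∈ U, ∀ i, i ≠ o → r (u • i) = u * r i)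
    (hd : π.ker ≤ (commutator (U.comap π)).map (U.comap π).subtype) :
    ∃ (Γ : Type (max u v w)) (_ : Group Γ) (σ : Γ →* G),
      Cfsg.IsStemExtension σ ∧ Nonempty (σ.ker ≃* π.ker) := by
  classical
  haveI := triv_normal π r hc
  let q := QuotientGroup.mk' (triv π r hc)
  let σ : sub π r ⧸ triv π r hc →* G := QuotientGroup.lift _ (proj π r) fun x hx =>
    ((mem_triv π r hc).1 hx).1
  obtain ⟨j, hj⟩ := exists_lift (π := π) o U hro hfix hr
  have hle : π.ker ≤ U.comap π := fun z hz => by
    rw [mem_comap, show π z = 1 from hz]; exact one_mem _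
  have hval : ∀ (z : U.comap π) (hz : π (z : X) = 1), val π r hc ⟨j z, (hj z).1.trans hz⟩ = (z : X) := by
    intro z hz
    refine (congrArg Subtype.val (Finset.prod_eq_single o (fun i _ hi => ?_)
      (fun h => absurd (Finset.mem_univ o) h))).trans (hj z).2.1
    exact Subtype.ext ((hj z).2.2 i hi)
  have hsame : ∀ (x : sub π r) (hx : proj π r x = 1), ∃ z : U.comap π, π (z : X) = 1 ∧
      q x = q (j z) ∧ (z : X) = val π r hc ⟨x, hx⟩ := by
    intro x hx
    have hm := val_mem π r hc ⟨x, hx⟩
    refine ⟨⟨_, hle hm⟩, hm, ?_, rfl⟩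
    refine (QuotientGroup.eq_iff_div_mem (x := x) (y := j ⟨_, hle hm⟩)).2 ?_
    have hjz := hval ⟨_, hle hm⟩ hm
    refine (mem_triv π r hc).2 ⟨by rw [map_div, hx, (hj _).1, show π (val π r hc ⟨x, hx⟩) = 1 from hm, div_one], ?_⟩
    have h2 := congrArg Subtype.val (map_div (prodHom π r hc) ⟨x, hx⟩ ⟨j ⟨_, hle hm⟩, (hj _).1.trans hm⟩)
    refine Eq.trans h2 ?_
    simp only [Subgroup.coe_div, prodHom, MonoidHom.coe_mk, OneHom.coe_mk, hjz, div_self', OneMemClass.coe_one]
  haveI : Finite I := inferInstance
  refine ⟨_, inferInstance, σ, ⟨?_, ?_, ?_⟩, ?_⟩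
  · intro g
    obtain ⟨x, hx⟩ := proj_surjective π r hrange g
    exact ⟨q x, hx⟩
  · intro y hy
    obtain ⟨x, rfl⟩ := QuotientGroup.mk'_surjective _ y
    rw [mem_center_iff]
    intro g
    obtain ⟨g, rfl⟩ := QuotientGroup.mk'_surjective _ g
    rw [← map_mul, ← map_mul, QuotientGroup.mk'_eq_mk']
    refine ⟨(g * x)⁻¹ * (x * g), ?_, mul_inv_cancel_left _ _⟩
    have hx : proj π r x = 1 := hy
    have hk : proj π r (g⁻¹ * x * g) = 1 := by rw [map_mul, map_mul, hx, map_inv, mul_one, inv_mul_cancel]
    rw [show (g * x)⁻¹ * (x * g) = x⁻¹ * (g⁻¹ * x * g) by group]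
    have hxr : x.1.right = 1 := hx
    refine (mem_triv π r hc).2 ⟨by rw [map_mul, map_inv, hx, hk, inv_one, one_mul], ?_⟩
    have h2 := congrArg Subtype.val (map_mul (prodHom π r hc) (⟨x, hx⟩ : (proj π r).ker)⁻¹ ⟨g⁻¹ * x * g, hk⟩)
    refine Eq.trans h2 ?_
    rw [map_inv, Subgroup.coe_mul, Subgroup.coe_inv, inv_mul_eq_one]
    show val π r hc ⟨x, hx⟩ = val π r hc ⟨g⁻¹ * x * g, hk⟩
    have hk' : proj π r (g⁻¹ * x * g⁻¹⁻¹) = 1 := by rw [inv_inv]; exact hk
    have h3 := val_conj π r hc x g⁻¹ hx hk'
    simp only [inv_inv] at h3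
    exact h3.symm
  · intro y hy
    obtain ⟨x, rfl⟩ := QuotientGroup.mk'_surjective _ y
    obtain ⟨z, hz, he, -⟩ := hsame x hy
    rw [show QuotientGroup.mk' (triv π r hc) x = q (j z) from he]
    obtain ⟨c, hcm, hce⟩ := hd (show (z : X) ∈ π.ker from hz)
    obtain rfl : c = z := Subtype.ext hce
    have hle' : (commutator (U.comap π)).map (q.comp j) ≤ commutator _ := by
      rw [_root_.commutator_def, map_commutator]
      exact commutator_mono le_top le_top
    exact hle' ⟨c, hcm, rfl⟩
  · let f : π.ker →* σ.ker :=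
      { toFun := fun z => ⟨q (j ⟨z, hle z.2⟩), (hj _).1.trans z.2⟩
        map_one' := Subtype.ext (by
          show q (j 1) = 1
          rw [map_one, map_one])
        map_mul' := fun a b => Subtype.ext (by
          show q (j (⟨a, hle a.2⟩ * ⟨b, hle b.2⟩)) = _
          rw [map_mul, map_mul]; rfl) }
    refine ⟨(MulEquiv.ofBijective f ⟨?_, ?_⟩).symm⟩
    · rw [injective_iff_map_eq_one]
      intro z hz
      have hm := (QuotientGroup.eq_one_iff _).1 (congrArg Subtype.val hz : q (j ⟨z, hle z.2⟩) = 1)
      obtain ⟨h, hv⟩ := (mem_triv π r hc).1 hm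
      exact Subtype.ext ((hval ⟨z, hle z.2⟩ z.2).symm.trans hv)
    · rintro ⟨y, hy⟩
      obtain ⟨x, rfl⟩ := QuotientGroup.mk'_surjective _ y
      obtain ⟨z, hz, he, -⟩ := hsame x hy
      exact ⟨⟨z, hz⟩, Subtype.ext he.symm⟩

end CfsgLib.Schur.SzEight.Induced
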