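import Cfsg.Agent.Lib.Schur.SzEight.Induced
import Cfsg.Agent.Lib.Schur.SzEight.Bound
import Mathlib.GroupTheory.SpecificGroups.KleinFour

/-!
The Schur multiplier of `Sz(8)` is a four-group.
-/

set_option autoImplicit false
set_option linter.unusedSectionVars false

namespace CfsgLib.Schur.SzEight

open Cfsg.Lie CfsgLib.KnownB.SzElem CfsgLib.KnownB.Suzuki
open scoped commutatorElement

universe u

variable {F : Type u} [Field F] [Fintype F] (hF : Fintype.card F = 8)
include hF

theorem ker_facts : Nat.card (covHom hF).ker = 4 ∧ ∀ z : (covHom hF).ker, z * z = 1 := by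
  classical
  have h2 := (twist hF).two
  have hone : addOrderOf (1 : F) = 2 := addOrderOf_eq_prime (by rw [two_nsmul]; linear_combination h2) one_ne_zero
  have hKer : Nat.card (Ker F) = 4 := by
    have h := (ones F).card_mul_index
    rw [show Nat.card (ones F) = 2 from (Nat.card_zmultiples (1 : F)).trans hone, Nat.card_eq_fintype_card,
      hF] at h
    have h' : Nat.card (Ker F) = (ones F).index := rfl
    omega
  let e : Ker F ≃ (covHom hF).ker :=
    { toFun := fun z => ⟨⟨z, 0, 0, 1⟩, covHom_eq_one.2 ⟨rfl, rfl, rfl⟩⟩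
      invFun := fun x => x.1.z
      left_inv := fun _ => rfl
      right_inv := fun x => by
        obtain ⟨ha, hb, ht⟩ := covHom_eq_one.1 x.2
        exact Subtype.ext (Cov.ext rfl ha.symm hb.symm ht.symm) }
  refine ⟨(Nat.card_congr e.symm).trans hKer, fun x => ?_⟩
  obtain ⟨ha, hb, ht⟩ := covHom_eq_one.1 x.2
  apply Subtype.ext
  show x.1 * x.1 = 1
  ext
  · obtain ⟨y, hy⟩ := QuotientAddGroup.mk_surjective x.1.z
    simp only [mul_def', one_def', ha, hb, ← hy]
    simp only [kpol, zero_pow (by norm_num : (2 : ℕ) ≠ 0), zero_pow (by norm_num : (5 : ℕ) ≠ 0),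
      zero_mul, add_zero, cls, QuotientAddGroup.mk_zero]
    rw [← QuotientAddGroup.mk_add, show y + y = 0 by linear_combination y * h2, QuotientAddGroup.mk_zero]
  all_goals simp [mul_def', one_def', ha, hb, ht]

theorem ker_le_commutator :
    (covHom hF).ker ≤ (commutator ((uGroup (twist hF)).comap (covHom hF))).map
      ((uGroup (twist hF)).comap (covHom hF)).subtype := by
  intro z hz
  obtain ⟨ha, hb, ht⟩ := covHom_eq_one.1 hz
  obtain ⟨d, hd⟩ := QuotientAddGroup.mk_surjective z.z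
  let x : Cov F hF := ⟨0, 1, 0, 1⟩
  let y : Cov F hF := ⟨0, 0, d, 1⟩
  have hx : x ∈ (uGroup (twist hF)).comap (covHom hF) := by
    rw [Subgroup.mem_comap, covHom_apply, H_one, mul_one]
    exact ⟨(1, 0), rfl⟩
  have hy : y ∈ (uGroup (twist hF)).comap (covHom hF) := by
    rw [Subgroup.mem_comap, covHom_apply, H_one, mul_one]
    exact ⟨(0, d), rfl⟩
  refine ⟨⁅(⟨x, hx⟩ : (uGroup (twist hF)).comap (covHom hF)), ⟨y, hy⟩⁆,
    Subgroup.commutator_mem_commutator (Subgroup.mem_top _) (Subgroup.mem_top _), ?_⟩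
  rw [map_commutatorElement]
  show ⁅x, y⁆ = z
  have e : x * y = z * (y * x) := by
    ext
    · simp [mul_def', x, y, ha, hb, ht, kpol, ← hd]
    all_goals simp [mul_def', x, y, ha, hb, ht]
  rw [commutatorElement_def, e]
  group

theorem exists_stem :
    ∃ (Γ : Type u) (_ : Group Γ) (σ : Γ →* Sz F 4),
      Cfsg.IsStemExtension σ ∧ Nonempty (σ.ker ≃* Multiplicative (ZMod 2 × ZMod 2)) := by
  classical
  have he := twist hF
  let E := Equiv.ofBijective _ (cosetRep_bijective (twist hF))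
  let r : Sz F 4 ⧸ borel F 4 → Sz F 4 := fun i => cosetRep (twist hF) (E.symm i)
  have hr : ∀ i, (QuotientGroup.mk (r i) : Sz F 4 ⧸ borel F 4) = i := fun i => E.apply_symm_apply i
  have hrmk : ∀ o, r (QuotientGroup.mk (cosetRep (twist hF) o)) = cosetRep (twist hF) o := fun o =>
    congrArg (cosetRep (twist hF)) (E.symm_apply_apply o)
  haveI : Fintype (Sz F 4 ⧸ borel F 4) := Fintype.ofFinite _
  have hfix : ∀ u ∈ uGroup (twist hF), u • (QuotientGroup.mk 1 : Sz F 4 ⧸ borel F 4) = QuotientGroup.mk 1 := by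
    intro u hu
    rw [MulAction.Quotient.smul_mk, smul_eq_mul, mul_one]
    obtain ⟨⟨a, b⟩, rfl⟩ := hu
    exact QuotientGroup.eq.2 (by rw [mul_one]; exact inv_mem (P_mem_borel _ _ _))
  have hfree : ∀ u ∈ uGroup (twist hF), ∀ i, i ≠ (QuotientGroup.mk 1 : Sz F 4 ⧸ borel F 4) → r (u • i) = u * r i := by
    rintro u ⟨⟨a, b⟩, rfl⟩ i hi
    obtain ⟨o, rfl⟩ := E.surjective i
    rcases o with _ | ⟨c, d⟩
    · exact absurd rfl hi
    · have e1 : r (E (some (c, d))) = cosetRep (twist hF) (some (c, d)) := hrmk (some (c, d))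
      rw [e1]
      show r (QuotientGroup.mk (P (twist hF) a b * (P (twist hF) c d * W (twist hF)))) = _
      rw [← mul_assoc, P_mul]
      refine (hrmk (some (_, _))).trans ?_
      show P (twist hF) _ _ * W (twist hF) = P (twist hF) a b * (P (twist hF) c d * W (twist hF))
      rw [← mul_assoc, P_mul]
  obtain ⟨Γ, iΓ, σ, hσ, ⟨e⟩⟩ := Induced.exists_stem (π := covHom hF) (r := r) ker_le_center
    (fun g i => by
      rw [range_covHom, mul_assoc]
      refine QuotientGroup.eq.1 ?_
      rw [hr, ← smul_eq_mul, ← MulAction.Quotient.smul_mk, hr])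
    (QuotientGroup.mk 1) (uGroup (twist hF)) ((hrmk none).trans rfl) hfix hfree (ker_le_commutator hF)
  obtain ⟨hcard, hsq⟩ := ker_facts hF
  have hA : Nat.card (Multiplicative (ZMod 2 × ZMod 2)) = 4 := by simp [Nat.card_eq_fintype_card]
  haveI : IsKleinFour (covHom hF).ker := by
    haveI : Nontrivial (covHom hF).ker := Finite.one_lt_card_iff_nontrivial.1 (by rw [hcard]; norm_num)
    refine ⟨hcard, Nat.le_antisymm (Nat.le_of_dvd (by norm_num)
      (Monoid.exponent_dvd_of_forall_pow_eq_one fun z => by rw [pow_two, hsq])) Monoid.one_lt_exponent⟩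
  haveI : IsKleinFour (Multiplicative (ZMod 2 × ZMod 2)) := by
    refine ⟨hA, Nat.le_antisymm ?_ Monoid.one_lt_exponent⟩
    exact Nat.le_of_dvd (by norm_num) (Monoid.exponent_dvd_of_forall_pow_eq_one (by decide))
  obtain ⟨k⟩ := IsKleinFour.nonempty_mulEquiv (G₁ := (covHom hF).ker) (G₂ := Multiplicative (ZMod 2 × ZMod 2))
  exact ⟨Γ, iΓ, σ, hσ, ⟨e.trans k⟩⟩

theorem hasSchurMultiplier : Cfsg.HasSchurMultiplier (Sz F 4) (Multiplicative (ZMod 2 × ZMod 2)) := by
  obtain ⟨Γ, _, σ, hσ, ⟨e⟩⟩ := exists_stem hF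
  exact CfsgLib.Schur.Basic.hasSchurMultiplier_of_le σ hσ e fun Δ _ _ τ hτ =>
    (card_ker_le hF Δ τ hτ).trans (le_of_eq (by simp [Nat.card_eq_fintype_card]))

end CfsgLib.Schur.SzEight
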